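import Cfsg.Agent.Lib.RankSeries.Basic

/-!
# Bi-invariant central functions and the constituents of a permutation character

For a subgroup `B` of a finite group `G`, the `B`-bi-invariant functions `u` satisfying
`∑_{b ∈ B} u (y b g) = ∑_{b ∈ B} u (g b y)` for all `g, y` form a space whose dimension is the number
of irreducible constituents of the permutation character on the cosets of `B`.
-/

set_option autoImplicit false
set_option linter.unusedSectionVars false

namespace Cfsg.Agent.Lib.HeckeCenter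

open scoped ComplexConjugate
open Cfsg.Agent.Lib

universe u

variable {G : Type u} [Group G] [Fintype G] (B : Subgroup G) [Fintype B]

/-- Bi-invariant functions central for convolution. -/
noncomputable def biCenter : Submodule ℂ (G → ℂ) where
  carrier := {u | (∀ g : G, ∀ b : B, u ((b : G) * g) = u g ∧ u (g * (b : G)) = u g) ∧
    ∀ g y : G, ∑ b : B, u (y * b * g) = ∑ b : B, u (g * b * y)}
  add_mem' {u v} hu hv := ⟨fun g b => ⟨by simp [(hu.1 g b).1, (hv.1 g b).1],
    by simp [(hu.1 g b).2, (hv.1 g b).2]⟩,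
    fun g y => by simp [Finset.sum_add_distrib, hu.2 g y, hv.2 g y]⟩
  zero_mem' := ⟨fun g b => ⟨rfl, rfl⟩, fun g y => rfl⟩
  smul_mem' c u hu := ⟨fun g b => ⟨by simp [(hu.1 g b).1], by simp [(hu.1 g b).2]⟩,
    fun g y => by simp [← Finset.mul_sum, hu.2 g y]⟩

/-- The sum of a character over `B`. -/
noncomputable def bSum (χ : IrrCharacter G) : ℂ := ∑ b : B, (χ : G → ℂ) b

/-- Averaging an irreducible character over `B`. -/
noncomputable def psi (χ : IrrCharacter G) : G → ℂ := fun g => ∑ b : B, (χ : G → ℂ) (g * b)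

/-- The pairing with an irreducible character. -/
noncomputable def pairing (χ : IrrCharacter G) : (G → ℂ) →ₗ[ℂ] ℂ where
  toFun u := ∑ g : G, u g * (χ : G → ℂ) g⁻¹
  map_add' u v := by simp [add_mul, Finset.sum_add_distrib]
  map_smul' c u := by simp [Finset.mul_sum, mul_assoc]

theorem irr_mul_comm (χ : IrrCharacter G) (x y : G) :
    (χ : G → ℂ) (x * y) = (χ : G → ℂ) (y * x) := by
  have := Chars.irr_isClassFunction χ (y * x) x
  rw [← this]; congr 1; group

/-- Generalised orthogonality. -/
theorem sum_irr_mul (η χ : IrrCharacter G) [Decidable (η = χ)] (b : G) :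
    (∑ g : G, (η : G → ℂ) g * (χ : G → ℂ) (g⁻¹ * b)) * (χ : G → ℂ) 1 =
      if η = χ then (Nat.card G : ℂ) * (χ : G → ℂ) b else 0 := by
  obtain ⟨n, ρ, hρ, hχ⟩ := χ.2
  obtain ⟨c, hc⟩ := Chars.exists_scalar_of_commute ρ (Chars.classSumEnd ρ (η : G → ℂ))
    (Chars.classSumEnd_comm ρ (Chars.irr_isClassFunction η))
  have htr := Chars.trace_classSumEnd ρ (η : G → ℂ)
  rw [hc, map_smul, LinearMap.trace_one, smul_eq_mul, hχ, Chars.classInner_irr] at htr
  have h1 : (χ : G → ℂ) 1 = (Module.finrank ℂ (Fin n → ℂ) : ℂ) := by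
    rw [← hχ]; exact ρ.char_one
  have h2 : ∑ g : G, (η : G → ℂ) g * (χ : G → ℂ) (g⁻¹ * b) = c * (χ : G → ℂ) b := by
    have := congrArg (fun T : Module.End ℂ (Fin n → ℂ) => LinearMap.trace ℂ _ (T * ρ b)) hc
    simp only [Chars.classSumEnd, Finset.sum_mul, smul_mul_assoc, ← map_mul, map_sum, map_smul,
      one_mul, smul_eq_mul] at this
    rw [← hχ]
    exact this
  rw [h2, h1, mul_right_comm, htr]
  split_ifs <;> ring

theorem pairing_psi (η χ : IrrCharacter G) [Decidable (η = χ)] :
    pairing χ (psi B η) * (χ : G → ℂ) 1 =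
      if η = χ then (Nat.card G : ℂ) * bSum B χ else 0 := by
  have h : pairing χ (psi B η) =
      ∑ b : B, ∑ g : G, (η : G → ℂ) g * (χ : G → ℂ) (g⁻¹ * b) := by
    simp only [pairing, psi, LinearMap.coe_mk, AddHom.coe_mk, Finset.sum_mul]
    rw [Finset.sum_comm]
    refine Finset.sum_congr rfl fun b _ => ?_
    refine Fintype.sum_equiv (Equiv.mulRight (b : G)) _ _ fun g => ?_
    simp only [Equiv.coe_mulRight, mul_inv_rev]
    rw [irr_mul_comm χ ((b : G)⁻¹ * g⁻¹), ← mul_assoc, mul_inv_cancel, one_mul]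
  rw [h, Finset.sum_mul,
    Finset.sum_congr rfl fun (b : B) _ => sum_irr_mul η χ (b : G)]
  split_ifs
  · rw [bSum, Finset.mul_sum]
  · simp

theorem psi_mem (η : IrrCharacter G) : psi B η ∈ biCenter B := by
  refine ⟨fun g b => ⟨?_, ?_⟩, fun g y => ?_⟩
  · simp only [psi]
    refine Fintype.sum_equiv (Equiv.mulRight b) _ _ fun c => ?_
    simp only [Equiv.coe_mulRight, Subgroup.coe_mul]
    rw [mul_assoc, irr_mul_comm, mul_assoc]
  · simp only [psi]
    refine Fintype.sum_equiv (Equiv.mulLeft b) _ _ fun c => ?_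
    simp only [Equiv.coe_mulLeft, Subgroup.coe_mul, mul_assoc]
  · simp only [psi]
    rw [Finset.sum_comm]
    refine Finset.sum_congr rfl fun b _ => Finset.sum_congr rfl fun c _ => ?_
    rw [mul_assoc (y * c) g, irr_mul_comm]
    simp only [mul_assoc]

theorem sum_irr_mul_eq_zero {χ : IrrCharacter G} (h : bSum B χ = 0) (y : G) :
    ∑ b : B, (χ : G → ℂ) ((b : G) * y) = 0 := by
  obtain ⟨n, ρ, -, hχ⟩ := χ.2
  set e : Module.End ℂ (Fin n → ℂ) := (Nat.card B : ℂ)⁻¹ • ∑ b : B, ρ (b : G) with he
  have hB : (Nat.card B : ℂ) ≠ 0 := Nat.cast_ne_zero.2 Nat.card_pos.ne'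
  have hfix : ∀ c : B, ρ (c : G) * ∑ b : B, ρ (b : G) = ∑ b : B, ρ (b : G) := by
    intro c
    rw [Finset.mul_sum]
    exact Fintype.sum_equiv (Equiv.mulLeft c) _ _ fun b => by simp [← map_mul]
  have hid : IsIdempotentElem e := by
    show e * e = e
    rw [he, smul_mul_assoc, Finset.sum_mul]
    simp only [mul_smul_comm, hfix, Finset.sum_const, Finset.card_univ, ← Nat.cast_smul_eq_nsmul ℂ,
      smul_smul, Fintype.card_eq_nat_card]
    congr 1
    field_simp
  have htr : LinearMap.trace ℂ _ e = 0 := by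
    rw [he, map_smul, map_sum]
    have : ∑ b : B, LinearMap.trace ℂ _ (ρ (b : G)) = bSum B χ := by rw [bSum, ← hχ]; rfl
    rw [this, h, smul_zero]
  have hproj := (LinearMap.isProj_range_iff_isIdempotentElem e).2 hid
  rw [hproj.trace, Nat.cast_eq_zero, Submodule.finrank_eq_zero, LinearMap.range_eq_bot] at htr
  have : ∑ b : B, ρ (b : G) = 0 := by
    rw [he] at htr
    exact (smul_eq_zero.1 htr).resolve_left (inv_ne_zero hB)
  have h2 := congrArg (fun T : Module.End ℂ (Fin n → ℂ) => LinearMap.trace ℂ _ (T * ρ y)) this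
  simp only [Finset.sum_mul, ← map_mul, map_sum, zero_mul, map_zero] at h2
  rw [← hχ]
  exact h2

theorem pairing_eq_zero {u : G → ℂ} (hu : u ∈ biCenter B) {χ : IrrCharacter G}
    (h : bSum B χ = 0) : pairing χ u = 0 := by
  have hB : (Nat.card B : ℂ) ≠ 0 := Nat.cast_ne_zero.2 Nat.card_pos.ne'
  have h1 : ∑ b : B, ∑ g : G, u g * (χ : G → ℂ) ((b : G) * g⁻¹) = 0 := by
    rw [Finset.sum_comm]
    simp [← Finset.mul_sum, sum_irr_mul_eq_zero B h]
  have h2 : ∀ b : B, ∑ g : G, u g * (χ : G → ℂ) ((b : G) * g⁻¹) = pairing χ u := by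
    intro b
    simp only [pairing, LinearMap.coe_mk, AddHom.coe_mk]
    refine Fintype.sum_equiv (Equiv.mulRight (b : G)⁻¹) _ _ fun g => ?_
    simp only [Equiv.coe_mulRight, mul_inv_rev, inv_inv]
    rw [show g * (b : G)⁻¹ = g * ((b⁻¹ : B) : G) from rfl, (hu.1 g b⁻¹).2]
  simp only [h2, Finset.sum_const, Finset.card_univ, nsmul_eq_mul, Fintype.card_eq_nat_card] at h1
  exact (mul_eq_zero.1 h1).resolve_left hB

/-- A central bi-invariant function with all pairings zero vanishes. -/
theorem eq_zero_of_pairing {u : G → ℂ} (hu : u ∈ biCenter B)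
    (h : ∀ χ : IrrCharacter G, pairing χ u = 0) : u = 0 := by
  let f : G → ℂ := fun y => ∑ x : G, u (x * y * x⁻¹)
  have hf : IsClassFunction G f := fun g k => by
    simp only [f]
    exact Fintype.sum_equiv (Equiv.mulRight k) _ _ fun x => by simp [mul_assoc]
  have hf0 : f = 0 := by
    refine Chars.eq_zero_of_forall_classInner_eq_zero hf fun χ => ?_
    rw [classInner, mul_eq_zero]
    right
    simp only [f, Finset.sum_mul]
    rw [Finset.sum_comm]
    refine Finset.sum_eq_zero fun x _ => ?_
    rw [← h χ]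
    simp only [pairing, LinearMap.coe_mk, AddHom.coe_mk]
    refine Fintype.sum_equiv (MulAut.conj x).toEquiv _ _ fun y => ?_
    simp only [MulEquiv.toEquiv_eq_coe, EquivLike.coe_coe, MulAut.conj_apply]
    congr 1
    rw [← Chars.irr_inv, ← Chars.irr_isClassFunction χ y⁻¹ x]
    congr 1
    group
  -- the positive quantity
  let v : G → G → ℂ := fun g x => ∑ b : B, u (x * b * g⁻¹)
  have hA : ∑ g : G, ∑ y : G, conj (u y) * ∑ b : B, u (y * g * b * g⁻¹) = 0 := by
    rw [Finset.sum_comm]
    refine Finset.sum_eq_zero fun y _ => ?_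
    rw [← Finset.mul_sum]
    have : ∑ g : G, ∑ b : B, u (y * g * b * g⁻¹) = 0 := by
      simp_rw [hu.2 _ (y * _)]
      rw [Finset.sum_comm]
      refine Finset.sum_eq_zero fun b _ => ?_
      have h3 := congrFun hf0 ((b : G) * y)
      simp only [f, Pi.zero_apply] at h3
      rw [← h3]
      exact Fintype.sum_equiv (Equiv.inv G) _ _ fun g => by simp [mul_assoc]
    rw [this, mul_zero]
  have hA2 : ∀ g : G, (Nat.card B : ℂ) * ∑ y : G, conj (u y) * ∑ b : B, u (y * g * b * g⁻¹) =
      ((∑ x : G, Complex.normSq (v g x) : ℝ) : ℂ) := by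
    intro g
    have e1 : ∑ y : G, conj (u y) * ∑ b : B, u (y * g * b * g⁻¹) =
        ∑ x : G, conj (u (x * g⁻¹)) * v g x :=
      Fintype.sum_equiv (Equiv.mulRight g) _ _ fun y => by simp [v]
    have hv : ∀ (x : G) (c : B), v g (x * c) = v g x := fun x c =>
      Fintype.sum_equiv (Equiv.mulLeft c) _ _ fun b => by simp [mul_assoc]
    have e2 : ∀ c : B, ∑ x : G, conj (u (x * c * g⁻¹)) * v g x =
        ∑ x : G, conj (u (x * g⁻¹)) * v g x := fun c =>
      Fintype.sum_equiv (Equiv.mulRight (c : G)) _ _ fun x => by simp [hv]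
    rw [e1, ← Fintype.card_eq_nat_card, ← nsmul_eq_mul, ← Finset.card_univ, ← Finset.sum_const,
      Finset.sum_congr rfl fun c _ => (e2 c).symm, Finset.sum_comm, Complex.ofReal_sum]
    refine Finset.sum_congr rfl fun x _ => ?_
    rw [Complex.normSq_eq_conj_mul_self, ← Finset.sum_mul]
    simp [v, map_sum]
  have h0 : ((∑ g : G, ∑ x : G, Complex.normSq (v g x) : ℝ) : ℂ) = 0 := by
    rw [Complex.ofReal_sum, ← Finset.sum_congr rfl fun g _ => hA2 g, ← Finset.mul_sum, hA, mul_zero]
  rw [Complex.ofReal_eq_zero] at h0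
  funext x
  have h4 := (Finset.sum_eq_zero_iff_of_nonneg
    (fun g _ => Finset.sum_nonneg fun x _ => Complex.normSq_nonneg _)).1 h0 1 (Finset.mem_univ _)
  have h5 := (Finset.sum_eq_zero_iff_of_nonneg
    (fun x _ => Complex.normSq_nonneg _)).1 h4 x (Finset.mem_univ _)
  have h6 : ∀ b : B, u (x * b * (1 : G)⁻¹) = u x := fun b => by
    rw [inv_one, mul_one]; exact (hu.1 x b).2
  rw [Complex.normSq_eq_zero] at h5
  simp only [v, h6, Finset.sum_const, Finset.card_univ, nsmul_eq_mul, mul_eq_zero,
    Nat.cast_eq_zero, Fintype.card_ne_zero, false_or] at h5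
  exact h5

theorem classInner_fixedPointCharacter (χ : IrrCharacter G) :
    classInner (fixedPointCharacter B) (χ : G → ℂ) = (Nat.card B : ℂ)⁻¹ * conj (bSum B χ) := by
  have : fixedPointCharacter B = indFun B (fun _ => 1) :=
    funext fun g => RankSeries.fixedPointCharacter_eq_indFun B g
  rw [this, Chars.classInner_indFun_left B _ _ (Chars.irr_isClassFunction χ), classInner, bSum,
    map_sum]
  simp

theorem isCharacter_fixedPointCharacter : IsCharacter G (fixedPointCharacter B) := by
  have : fixedPointCharacter B = indFun B (fun _ => 1) :=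
    funext fun g => RankSeries.fixedPointCharacter_eq_indFun B g
  rw [this]
  exact Chars.isCharacter_indFun B (Chars.irr_isCharacter (Chars.trivialIrr B))

/-- Being a constituent of the permutation character. -/
theorem constituent_iff (χ : IrrCharacter G) :
    (∃ φ : G → ℂ, IsCharacter G φ ∧ fixedPointCharacter B = (χ : G → ℂ) + φ) ↔
      bSum B χ ≠ 0 := by
  have hπ := isCharacter_fixedPointCharacter B
  have key := classInner_fixedPointCharacter B χ
  constructor
  · rintro ⟨φ, hφ, e⟩ h0
    rw [h0, map_zero, mul_zero, e, Chars.classInner_add_left, Chars.classInner_irr_self] at key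
    obtain ⟨k, hk⟩ := Chars.isCharacter_classInner_nat hφ (Chars.irr_isCharacter χ)
    rw [hk] at key
    exact Nat.succ_ne_zero k (by exact_mod_cast (show ((k + 1 : ℕ) : ℂ) = 0 by push_cast; linear_combination key))
  · intro h
    obtain ⟨k, hk⟩ := Chars.isCharacter_classInner_nat hπ (Chars.irr_isCharacter χ)
    have hk0 : k ≠ 0 := by
      rintro rfl
      rw [hk, Nat.cast_zero, eq_comm, mul_eq_zero] at key
      rcases key with h' | h'
      · simp at h'
      · exact h (by simpa using h')
    refine ⟨fixedPointCharacter B - (χ : G → ℂ), ?_, by simp⟩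
    refine Chars.isCharacter_of_isClassFunction_of_nat
      (Chars.isClassFunction_sub (Chars.isClassFunction_of_isCharacter hπ)
        (Chars.irr_isClassFunction χ)) fun ψ => ?_
    obtain ⟨m, hm⟩ := Chars.isCharacter_classInner_nat hπ (Chars.irr_isCharacter ψ)
    rw [Chars.classInner_sub_left, hm]
    by_cases e : χ = ψ
    · subst e
      rw [hk] at hm
      rw [Chars.classInner_irr_self, ← hm]
      exact ⟨k - 1, by rw [Nat.cast_sub (Nat.one_le_iff_ne_zero.2 hk0), Nat.cast_one]⟩
    · exact ⟨m, by rw [Chars.classInner_irr_of_ne e, sub_zero]⟩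

/-- The number of constituents is the dimension of the central bi-invariant functions. -/
theorem card_constituents :
    Nat.card {χ : IrrCharacter G //
      ∃ φ : G → ℂ, IsCharacter G φ ∧ fixedPointCharacter B = (χ : G → ℂ) + φ} =
      Module.finrank ℂ (biCenter B) := by
  classical
  rw [Nat.card_congr (Equiv.subtypeEquivRight (constituent_iff B))]
  let I := {χ : IrrCharacter G // bSum B χ ≠ 0}
  let _ : Fintype I := Fintype.ofFinite I
  have hG : (Nat.card G : ℂ) ≠ 0 := Nat.cast_ne_zero.2 Nat.card_pos.ne'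
  have hli : LinearIndependent ℂ fun i : I => (⟨psi B i.1, psi_mem B i.1⟩ : biCenter B) := by
    rw [Fintype.linearIndependent_iff]
    intro c hc i
    have h := congrArg (fun u : biCenter B => pairing i.1 (u : G → ℂ) * (i.1 : G → ℂ) 1) hc
    simp only [Submodule.coe_sum, Submodule.coe_smul, map_sum, map_smul, smul_eq_mul,
      Finset.sum_mul, ZeroMemClass.coe_zero, map_zero, zero_mul, mul_assoc, pairing_psi,
      mul_ite, mul_zero] at h
    rw [Finset.sum_eq_single i (fun j _ hj => if_neg fun e => hj (Subtype.ext e)) (by simp),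
      if_pos rfl] at h
    exact (mul_eq_zero.1 h).resolve_right (mul_ne_zero hG i.2)
  let T : biCenter B →ₗ[ℂ] (I → ℂ) :=
    LinearMap.pi fun i => (pairing i.1).comp (biCenter B).subtype
  have hT : Function.Injective T := by
    rw [injective_iff_map_eq_zero]
    intro u hu
    refine Subtype.ext (eq_zero_of_pairing B u.2 fun χ => ?_)
    by_cases h : bSum B χ = 0
    · exact pairing_eq_zero B u.2 h
    · exact congrFun hu ⟨χ, h⟩
  have h1 := hli.fintype_card_le_finrank
  have h2 := LinearMap.finrank_le_finrank_of_injective hT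
  rw [Module.finrank_fintype_fun_eq_card] at h2
  rw [Nat.card_eq_fintype_card]
  exact le_antisymm h1 h2

end Cfsg.Agent.Lib.HeckeCenter
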