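import Cfsg.Agent.Lib.HeckeCenter.Operators

/-!
# The centre of the Hecke algebra as the image of its Casimir operator

`center P q` is the space of functions `v` with `lop q s v = rop q s v` for all `s`; for `q > 0`
it is the range of `casimir P q`.
-/

set_option autoImplicit false
set_option linter.unusedSectionVars false

namespace Cfsg.Agent.Lib.HeckeCenter

open Cfsg.Agent.Lib.BNPair
open scoped ComplexConjugate

variable {G : Type*} [Group G] (P : Cfsg.BNPair G)

/-- The obstruction map whose kernel is the centre. -/
noncomputable def obs (q : ℝ) : (W P → ℂ) →ₗ[ℂ] (P.S → W P → ℂ) :=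
  LinearMap.pi fun s => lop P q s - rop P q s

/-- The centre. -/
noncomputable def center (q : ℝ) : Submodule ℂ (W P → ℂ) := LinearMap.ker (obs P q)

theorem mem_center {q : ℝ} {v : W P → ℂ} :
    v ∈ center P q ↔ ∀ s, lop P q s v = rop P q s v := by
  rw [center, LinearMap.mem_ker, funext_iff]
  simp only [obs, LinearMap.pi_apply, Pi.zero_apply, LinearMap.sub_apply, sub_eq_zero]

variable [Fintype (W P)]

/-- One summand of the Casimir operator. -/
noncomputable def casTerm (q : ℝ) (w : W P) : Module.End ℂ (W P → ℂ) :=
  ((q : ℂ) ^ len P w)⁻¹ • (lword P q (red P w) * rword P q (red P w))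

/-- The Casimir operator. -/
noncomputable def casimir (q : ℝ) : Module.End ℂ (W P → ℂ) := ∑ w, casTerm P q w

variable [Finite G]

omit [Fintype (W P)] in
theorem lop_mul_lword_asc (q : ℝ) {s : P.S} {w : W P} (h : len P w < len P (refl P s * w)) :
    lop P q s * lword P q (red P w) = lword P q (red P (refl P s * w)) := by
  refine eq_of_commute_rop P q (fun t => ?_) (fun t => lword_commute_rop P q _ t) ?_
  · exact Commute.mul_left (lop_rop_comm P q s t) (lword_commute_rop P q _ t)
  · rw [Module.End.mul_apply, lword_red, lword_red, lop_bas_asc P q h]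

omit [Fintype (W P)] in
theorem lop_mul_lword_desc (q : ℝ) {s : P.S} {w : W P} (h : len P (refl P s * w) < len P w) :
    lop P q s * lword P q (red P w) =
      ((q : ℂ) - 1) • lword P q (red P w) + (q : ℂ) • lword P q (red P (refl P s * w)) := by
  refine eq_of_commute_rop P q (fun t => ?_) (fun t => ?_) ?_
  · exact Commute.mul_left (lop_rop_comm P q s t) (lword_commute_rop P q _ t)
  · exact ((lword_commute_rop P q _ t).smul_left _).add_left
      ((lword_commute_rop P q _ t).smul_left _)
  · simp only [Module.End.mul_apply, LinearMap.add_apply, LinearMap.smul_apply, lword_red,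
      lop_bas_desc P q h]

omit [Fintype (W P)] in
theorem rop_mul_rword_asc (q : ℝ) {s : P.S} {w : W P} (h : len P w < len P (refl P s * w)) :
    rop P q s * rword P q (red P w) = rword P q (red P (refl P s * w)) := by
  have e : w⁻¹ * refl P s = (refl P s * w)⁻¹ := by rw [mul_inv_rev, refl_inv]
  refine eq_of_commute_lop P q (fun t => ?_) (fun t => rword_commute_lop P q _ t) ?_
  · exact Commute.mul_left (lop_rop_comm P q t s).symm (rword_commute_lop P q _ t)
  · rw [Module.End.mul_apply, rword_red, rword_red,
      rop_bas_asc P q (by rw [e, len_inv, len_inv]; exact h), e]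

omit [Fintype (W P)] in
theorem rop_mul_rword_desc (q : ℝ) {s : P.S} {w : W P} (h : len P (refl P s * w) < len P w) :
    rop P q s * rword P q (red P w) =
      ((q : ℂ) - 1) • rword P q (red P w) + (q : ℂ) • rword P q (red P (refl P s * w)) := by
  have e : w⁻¹ * refl P s = (refl P s * w)⁻¹ := by rw [mul_inv_rev, refl_inv]
  refine eq_of_commute_lop P q (fun t => ?_) (fun t => ?_) ?_
  · exact Commute.mul_left (lop_rop_comm P q t s).symm (rword_commute_lop P q _ t)
  · exact ((rword_commute_lop P q _ t).smul_left _).add_left
      ((rword_commute_lop P q _ t).smul_left _)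
  · simp only [Module.End.mul_apply, LinearMap.add_apply, LinearMap.smul_apply, rword_red,
      rop_bas_desc P q (show len P (w⁻¹ * refl P s) < len P w⁻¹ by rw [e, len_inv, len_inv]; exact h),
      e]

/-- The difference of the two multiplications on one summand. -/
noncomputable def casDefect (q : ℝ) (s : P.S) (w : W P) : Module.End ℂ (W P → ℂ) :=
  lop P q s * casTerm P q w - rop P q s * casTerm P q w

omit [Fintype (W P)] in
theorem casDefect_add (q : ℝ) (hq : q ≠ 0) {s : P.S} {w : W P}
    (h : len P w < len P (refl P s * w)) :
    casDefect P q s w + casDefect P q s (refl P s * w) = 0 := by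
  set u := refl P s * w with hu
  have hw : refl P s * u = w := refl_mul_cancel P s w
  have hd : len P (refl P s * u) < len P u := by rw [hw]; exact h
  have hl : len P u = len P w + 1 := by
    rcases len_refl_mul P s w with e | e <;> [exact e; (rw [← hu] at e; omega)]
  have hq' : (q : ℂ) ≠ 0 := by exact_mod_cast hq
  have e1 : ∀ v : W P, rop P q s * (lword P q (red P v) * rword P q (red P v)) =
      lword P q (red P v) * (rop P q s * rword P q (red P v)) := fun v => by
    rw [← mul_assoc, ← (lword_commute_rop P q (red P v) s).eq, mul_assoc]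
  simp only [casDefect, casTerm, mul_smul_comm, e1, ← mul_assoc (lop P q s)]
  rw [lop_mul_lword_asc P q h, rop_mul_rword_asc P q h, lop_mul_lword_desc P q hd,
    rop_mul_rword_desc P q hd, hw, hl, pow_succ, mul_inv]
  simp only [add_mul, mul_add, smul_mul_assoc, mul_smul_comm, smul_add, smul_smul]
  rw [← hu]
  match_scalars <;> field_simp <;> ring

theorem obs_comp_casimir (q : ℝ) (hq : q ≠ 0) (v : W P → ℂ) : casimir P q v ∈ center P q := by
  rw [mem_center]
  intro s
  have hD : ∑ w, casDefect P q s w = 0 := by
    have h2 : ∑ w, casDefect P q s (refl P s * w) = ∑ w, casDefect P q s w :=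
      Fintype.sum_equiv (Equiv.mulLeft (refl P s)) _ _ fun w => rfl
    have h3 : ∑ w, (casDefect P q s w + casDefect P q s (refl P s * w)) = 0 := by
      refine Finset.sum_eq_zero fun w _ => ?_
      rcases len_refl_mul P s w with e | e
      · exact casDefect_add P q hq (by omega)
      · have := casDefect_add P q hq (s := s) (w := refl P s * w) (by rw [refl_mul_cancel]; omega)
        rw [refl_mul_cancel] at this
        rw [add_comm]; exact this
    rw [Finset.sum_add_distrib, h2, ← two_smul ℂ] at h3
    exact (smul_eq_zero.1 h3).resolve_left two_ne_zero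
  have := LinearMap.congr_fun hD v
  simp only [casDefect, Finset.sum_sub_distrib, ← Finset.mul_sum, LinearMap.sub_apply,
    Module.End.mul_apply, LinearMap.zero_apply, sub_eq_zero] at this
  exact this

/-- The invariant inner product. -/
noncomputable def form (q : ℝ) (f g : W P → ℂ) : ℂ :=
  ∑ w, (q : ℂ) ^ len P w * (conj (f w) * g w)

theorem form_lop (q : ℝ) (s : P.S) (f g : W P → ℂ) :
    form P q (lop P q s f) g = form P q f (lop P q s g) := by
  rw [← sub_eq_zero]
  set D : W P → ℂ := fun w => (q : ℂ) ^ len P w *
    (conj (lop P q s f w) * g w - conj (f w) * lop P q s g w) with hDdef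
  have hD : form P q (lop P q s f) g - form P q f (lop P q s g) = ∑ w, D w := by
    simp only [form, hDdef, mul_sub, Finset.sum_sub_distrib]
  have key : ∀ w, len P w < len P (refl P s * w) → D w + D (refl P s * w) = 0 := by
    intro w h
    have hl : len P (refl P s * w) = len P w + 1 := by
      rcases len_refl_mul P s w with e | e <;> omega
    simp only [hDdef, lop_apply, refl_mul_cancel, hl, if_neg (show ¬ len P w + 1 < len P w by omega),
      Nat.lt_succ_self, if_true, map_add, map_mul, map_sub, map_one, Complex.conj_ofReal]
    ring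
  rw [hD]
  have h2 : ∑ w, D (refl P s * w) = ∑ w, D w :=
    Fintype.sum_equiv (Equiv.mulLeft (refl P s)) _ _ fun w => rfl
  have h3 : ∑ w, (D w + D (refl P s * w)) = 0 := by
    refine Finset.sum_eq_zero fun w _ => ?_
    rcases len_refl_mul P s w with e | e
    · exact key w (by omega)
    · have := key (refl P s * w) (by rw [refl_mul_cancel]; omega)
      rw [refl_mul_cancel] at this
      rw [add_comm]; exact this
  rw [Finset.sum_add_distrib, h2] at h3
  exact (add_self_eq_zero.1 h3)

theorem form_lword (q : ℝ) : ∀ (L : List P.S) (f g : W P → ℂ),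
    form P q (lword P q L f) g = form P q f (lword P q L.reverse g)
  | [], f, g => by simp [lword]
  | s :: L, f, g => by
    rw [lword_cons, Module.End.mul_apply, form_lop, form_lword q L]
    congr 1
    simp [lword]

omit [Fintype (W P)] in
theorem lword_reverse_red (q : ℝ) (w : W P) :
    lword P q (red P w).reverse (bas P 1) = bas P w⁻¹ := by
  rw [lword_bas, wprod_reverse, red_prod]
  rw [List.length_reverse, wprod_reverse, red_prod, red_length, len_inv]

/-- The operator attached to a function by left multiplication. -/
noncomputable def leftMul (q : ℝ) (v : W P → ℂ) : Module.End ℂ (W P → ℂ) :=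
  ∑ w, v w • lword P q (red P w)

theorem leftMul_bas_one (q : ℝ) (v : W P → ℂ) : leftMul P q v (bas P 1) = v := by
  conv_rhs => rw [eq_sum_bas P v]
  simp [leftMul, lword_red]

theorem leftMul_commute_rop (q : ℝ) (v : W P → ℂ) (t : P.S) :
    Commute (leftMul P q v) (rop P q t) :=
  Commute.sum_left _ _ _ fun _ _ => (lword_commute_rop P q _ t).smul_left _

omit [Fintype (W P)] [Finite G] in
theorem lop_bas_one_eq (q : ℝ) (t : P.S) :
    lop P q t (bas P 1) = rop P q t (bas P 1) := by
  rw [lop_bas_asc P q (by simp [len_one, len_refl]), rop_bas_asc P q (by simp [len_one, len_refl]),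
    mul_one, one_mul]

theorem leftMul_commute_lop {q : ℝ} {v : W P → ℂ} (hv : v ∈ center P q) (t : P.S) :
    Commute (leftMul P q v) (lop P q t) := by
  rw [mem_center] at hv
  refine eq_of_commute_rop P q (fun u => ?_) (fun u => ?_) ?_
  · exact (leftMul_commute_rop P q v u).mul_left (lop_rop_comm P q t u)
  · exact Commute.mul_left (lop_rop_comm P q t u) (leftMul_commute_rop P q v u)
  · rw [Module.End.mul_apply, Module.End.mul_apply, leftMul_bas_one, hv t, lop_bas_one_eq,
      ← Module.End.mul_apply, (leftMul_commute_rop P q v t).eq, Module.End.mul_apply,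
      leftMul_bas_one]

theorem rword_eq_of_center {q : ℝ} {v : W P → ℂ} (hv : v ∈ center P q) (w : W P) :
    rword P q (red P w) v = lword P q (red P w).reverse v := by
  have c1 : ∀ L : List P.S, Commute (leftMul P q v) (rword P q L) := by
    intro L
    induction L with
    | nil => exact Commute.one_right _
    | cons s L ih => rw [rword_cons]; exact (leftMul_commute_rop P q v s).mul_right ih
  have c2 : ∀ L : List P.S, Commute (leftMul P q v) (lword P q L) := by
    intro L
    induction L with
    | nil => exact Commute.one_right _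
    | cons s L ih => rw [lword_cons]; exact (leftMul_commute_lop P hv s).mul_right ih
  conv_lhs => rw [← leftMul_bas_one P q v, ← Module.End.mul_apply, ← (c1 _).eq,
    Module.End.mul_apply, rword_red]
  conv_rhs => rw [← leftMul_bas_one P q v, ← Module.End.mul_apply, ← (c2 _).eq,
    Module.End.mul_apply, lword_reverse_red]

/-- The Casimir operator is injective on the centre. -/
theorem eq_zero_of_casimir_eq_zero {q : ℝ} (hq : 0 < q) {v : W P → ℂ} (hv : v ∈ center P q)
    (h : casimir P q v = 0) : v = 0 := by
  have h0 : form P q (casimir P q v) v = 0 := by rw [h]; simp [form]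
  let N : (W P → ℂ) → ℝ := fun f => ∑ u, q ^ len P u * Complex.normSq (f u)
  have hN : ∀ f, form P q f f = (N f : ℂ) := by
    intro f
    simp only [form, N, Complex.ofReal_sum, Complex.ofReal_mul, Complex.ofReal_pow,
      Complex.normSq_eq_conj_mul_self]
  have hN0 : ∀ f, 0 ≤ N f := fun f =>
    Finset.sum_nonneg fun u _ => mul_nonneg (by positivity) (Complex.normSq_nonneg _)
  have hterm : ∀ w, form P q (casTerm P q w v) v =
      (((q ^ len P w)⁻¹ * N (lword P q (red P w).reverse v) : ℝ) : ℂ) := by
    intro w
    have hs : ∀ (c : ℝ) (f g : W P → ℂ), form P q ((c : ℂ) • f) g = (c : ℂ) * form P q f g := by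
      intro c f g
      simp only [form, Pi.smul_apply, smul_eq_mul, map_mul, Complex.conj_ofReal, Finset.mul_sum]
      exact Finset.sum_congr rfl fun u _ => by ring
    rw [casTerm, LinearMap.smul_apply, Module.End.mul_apply,
      show ((q : ℂ) ^ len P w)⁻¹ = (((q ^ len P w)⁻¹ : ℝ) : ℂ) by push_cast; rfl, hs,
      rword_eq_of_center P hv, form_lword, hN, Complex.ofReal_mul]
  have hsum : form P q (casimir P q v) v = ∑ w, form P q (casTerm P q w v) v := by
    simp only [form, casimir, LinearMap.sum_apply, Finset.sum_apply, map_sum, Finset.sum_mul,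
      Finset.mul_sum]
    exact Finset.sum_comm
  rw [hsum, Finset.sum_congr rfl fun w _ => hterm w, ← Complex.ofReal_sum,
    Complex.ofReal_eq_zero, Finset.sum_eq_zero_iff_of_nonneg
      (fun w _ => mul_nonneg (by positivity) (hN0 _))] at h0
  have h1 := h0 1 (Finset.mem_univ _)
  simp only [len_one, pow_zero, inv_one, one_mul, red_one, List.reverse_nil] at h1
  have h2 : N v = 0 := by simpa [lword] using h1
  funext u
  have := (Finset.sum_eq_zero_iff_of_nonneg
    (fun u _ => mul_nonneg (by positivity) (Complex.normSq_nonneg _))).1 h2 u (Finset.mem_univ _)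
  simpa [(pow_pos hq (len P u)).ne'] using this

/-- For `q > 0` the centre is the range of the Casimir operator. -/
theorem center_eq_range {q : ℝ} (hq : 0 < q) :
    center P q = LinearMap.range (casimir P q) := by
  refine le_antisymm ?_ (by rintro _ ⟨v, rfl⟩; exact obs_comp_casimir P q hq.ne' v)
  let f : center P q →ₗ[ℂ] center P q :=
    ((casimir P q).comp (center P q).subtype).codRestrict _
      fun v => obs_comp_casimir P q hq.ne' _
  have hf : Function.Injective f := by
    rw [injective_iff_map_eq_zero]
    intro v hv
    exact Subtype.ext (eq_zero_of_casimir_eq_zero P hq v.2 (congrArg Subtype.val hv))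
  intro v hv
  obtain ⟨u, hu⟩ := (LinearMap.injective_iff_surjective.1 hf) ⟨v, hv⟩
  exact ⟨u, congrArg Subtype.val hu⟩

end Cfsg.Agent.Lib.HeckeCenter
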