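import Cfsg.Agent.Lib.HeckeCenter.TitsSystem
import Cfsg.Agent.Lib.Chev.TitsSystem

/-!
# The principal series of a Chevalley group
-/

set_option autoImplicit false

namespace Cfsg.Agent.Lib.HeckeCenter

open Cfsg.Lie
open Cfsg.Agent.Lib.Chev

universe u

variable {D : ChevalleyDatum} {C : Cert} {F : Type u} [Field F] [Fintype F] (hh : Rooted D C)

/-- In a Chevalley group over `F` one has `[B : B ∩ s⁻¹Bs] = |F|`. -/
theorem card_innerB_chev [Fintype ↥(D.group F)] [Fintype (hh.bnPair F).B] (s : (hh.bnPair F).S) :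
    Nat.card (innerB (hh.bnPair F) s) * Fintype.card F = Nat.card (hh.bnPair F).B := by
  classical
  have h := hh.toChecked
  obtain ⟨⟨n, hn⟩, i, hi, ei⟩ := s
  have en : n = nS h F i := Units.ext (by rw [coe_nS _ hi]; exact ei)
  subst en
  set P := hh.bnPair F with hP
  set p := D.simple i with hp_def
  have hp := h.simple_spec hi
  obtain ⟨hnorm, hsup⟩ := hh.simple_sdiff (F := F) hi
  have hxB : ∀ t : F, xGL h F hp.1 t ∈ D.borelSubgroup F := fun t =>
    Subgroup.mem_sup_left (h.xGL_mem_pos hp.1 hp.2 t)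
  have hadd : ∀ t u : F, xGL h F hp.1 t * xGL h F hp.1 u = xGL h F hp.1 (t + u) := fun t u =>
    Units.ext (by rw [Units.val_mul, coe_xGL, coe_xGL, coe_xGL, h.x_add hp.1])
  let xel : F → P.B := fun t => ⟨⟨xGL h F hp.1 t, hh.borel_le_group (hxB t)⟩, hxB t⟩
  let f : F × innerB P ⟨⟨nS h F i, hn⟩, i, hi, ei⟩ → P.B :=
    fun a => xel a.1 * ⟨a.2.1, a.2.2.1⟩
  have hf : Function.Bijective f := by
    constructor
    · rintro ⟨t₁, c₁⟩ ⟨t₂, c₂⟩ e
      have e' := congrArg (fun b : P.B => ((b : ↥(D.group F)) : GL D.Idx F)) e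
      simp only [f, xel, Subgroup.coe_mul] at e'
      have e2 : xGL h F hp.1 (-t₂ + t₁) =
          ((c₂.1 * c₁.1⁻¹ : ↥(D.group F)) : GL D.Idx F) := by
        rw [← hadd, Subgroup.coe_mul, Subgroup.coe_inv, eq_mul_inv_iff_mul_eq, mul_assoc, e',
          ← mul_assoc, hadd, neg_add_cancel]
        have : xGL h F hp.1 (0 : F) = 1 := Units.ext (by rw [coe_xGL, h.x_zero hp.1]; rfl)
        rw [this, one_mul]
      have hc := mul_mem c₂.2 (inv_mem c₁.2)
      rw [mem_innerB] at hc
      have h2 : nS h F i * xGL h F hp.1 (-t₂ + t₁) * (nS h F i)⁻¹ ∈ D.borelSubgroup F := by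
        have := hc.2
        rw [e2]
        simpa [hP, Rooted.bnPair, Subgroup.mem_subgroupOf] using this
      rw [h.nS_conj_x hi hp.1, mul_inv_cancel_right] at h2
      have hnn : ng D (D.simple i) < D.nroots / 2 := by
        have := h.two_mul_half; have := hp.2; have := hp.1; unfold ng; omega
      have hv := h.xGL_mem_neg (F := F) (h.refl_lt hi hp.1) (by rw [h.simple_refl hi]; exact hnn)
        ((eta C i (D.simple i) : F) * (-t₂ + t₁))
      have e1 := hh.borel_inf_negUnipotent.le ⟨h2, hv⟩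
      rw [Subgroup.mem_bot] at e1
      have e3 := congrArg Units.val e1
      rw [coe_xGL, Units.val_one, h.x_eq_one_iff (h.refl_lt hi hp.1)] at e3
      have e4 : -t₂ + t₁ = 0 :=
        (mul_eq_zero.1 e3).resolve_left (by
          rcases eta_cases (C := C) i (D.simple i) with w | w <;> simp [w])
      have ht : t₁ = t₂ := by linear_combination e4
      subst ht
      exact Prod.ext rfl (Subtype.ext (Subtype.ext (mul_left_cancel e')))
    · rintro ⟨⟨b, hbG⟩, hb⟩
      have hb' : b ∈ D.borelSubgroup F := hb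
      obtain ⟨u, hu, t, ht, e⟩ := hh.mem_borel_iff.1 hb'
      have hu' : u ∈ (↑(rootGen D F (posSet D \ {D.simple i}) ⊔ D.rootSubgroup F (D.simple i)) :
          Set (GL D.Idx F)) := by rw [hsup]; exact hu
      rw [Subgroup.coe_mul_of_right_le_normalizer_left _ _ (le_trans le_sup_left hnorm)] at hu'
      obtain ⟨u₁, hu₁, x, hx, rfl⟩ := hu'
      obtain ⟨a, rfl⟩ := (h.rootSubgroup_mem_iff hp.1).1 hx
      set x := xGL h F hp.1 a with hxdef
      have hxn : x ∈ Subgroup.normalizer (rootGen D F (posSet D \ {D.simple i}) : Set (GL D.Idx F)) :=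
        hnorm (Subgroup.mem_sup_left ((h.rootSubgroup_mem_iff hp.1).2 ⟨a, rfl⟩))
      have hu₂ : x⁻¹ * u₁ * x ∈ rootGen D F (posSet D \ {D.simple i}) := by
        have := (Subgroup.mem_normalizer_iff.1 (inv_mem hxn) u₁).1 hu₁
        simpa using this
      set c : GL D.Idx F := x⁻¹ * u₁ * x * t with hc
      have hcB : c ∈ D.borelSubgroup F := mul_mem (hh.simple_sdiff_le hu₂) (Subgroup.mem_sup_right ht)
      have hcs : nS h F i * c * (nS h F i)⁻¹ ∈ D.borelSubgroup F := by
        have : nS h F i * c * (nS h F i)⁻¹ = (nS h F i * (x⁻¹ * u₁ * x) * (nS h F i)⁻¹) *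
            (nS h F i * t * (nS h F i)⁻¹) := by rw [hc]; group
        rw [this]
        obtain ⟨t', ht', et⟩ := hh.nS_conj_diag hi ht
        rw [et, mul_inv_cancel_right]
        exact mul_mem (hh.simple_sdiff_le (hh.nS_conj_simple_sdiff hi hu₂))
          (Subgroup.mem_sup_right ht')
      refine ⟨⟨a, ⟨⟨c, hh.borel_le_group hcB⟩, ?_⟩⟩, ?_⟩
      · rw [mem_innerB]
        refine ⟨hcB, ?_⟩
        simpa [hP, Rooted.bnPair, Subgroup.mem_subgroupOf] using hcs
      · refine Subtype.ext (Subtype.ext ?_)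
        simp only [f, xel, Subgroup.coe_mul]
        rw [hc, e, ← hxdef]; group
  rw [← Nat.card_congr (Equiv.ofBijective f hf), Nat.card_prod, Nat.card_eq_fintype_card (α := F),
    mul_comm]

include hh in
/-- The number of constituents of `1_B^G` in a Chevalley group is the class number of `N/H`. -/
theorem card_constituents_chev {M : Type} [Group M]
    (φ : ↥(D.monomialSubgroup F) →* M) (hφ : Function.Surjective φ)
    (hker : φ.ker = (D.diagonalSubgroup F).subgroupOf (D.monomialSubgroup F)) :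
    Nat.card {χ : Cfsg.IrrCharacter ↥(D.group F) //
      ∃ ψ : ↥(D.group F) → ℂ, Cfsg.IsCharacter ↥(D.group F) ψ ∧
        Cfsg.fixedPointCharacter ((D.borelSubgroup F).subgroupOf (D.group F)) =
          (χ : ↥(D.group F) → ℂ) + ψ} = Nat.card (ConjClasses M) := by
  classical
  let P := hh.bnPair F
  let _ : Fintype ↥(D.group F) := Fintype.ofFinite _
  let _ : Fintype P.B := Fintype.ofFinite _
  have key := card_constituents_eq P (q := Fintype.card F) (card_innerB_chev hh) Fintype.card_ne_zero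
  refine key.trans ?_
  let ψ : P.N →* M := φ.comp
    { toFun := fun n => ⟨(n : ↥(D.group F)), n.2⟩
      map_one' := rfl
      map_mul' := fun a b => rfl }
  have hψ : Function.Surjective ψ := by
    intro m
    obtain ⟨g, rfl⟩ := hφ m
    exact ⟨⟨⟨g, hh.monomial_le_group g.2⟩, g.2⟩, rfl⟩
  have hψk : ψ.ker = BNPair.torus P := by
    ext n
    rw [BNPair.mem_torus, MonoidHom.mem_ker]
    change φ ⟨(n : ↥(D.group F)), n.2⟩ = 1 ↔ ((n : ↥(D.group F)) : GL D.Idx F) ∈ D.borelSubgroup F
    rw [← MonoidHom.mem_ker, hker, Subgroup.mem_subgroupOf]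
    refine ⟨fun hd => Subgroup.mem_sup_right hd, fun hb => ?_⟩
    rw [← hh.borel_inf_monomial]
    exact ⟨hb, n.2⟩
  let e : BNPair.W P ≃* M :=
    (QuotientGroup.quotientMulEquivOfEq hψk.symm).trans (QuotientGroup.quotientKerEquivOfSurjective ψ hψ)
  exact Nat.card_congr
    { toFun := ConjClasses.map e.toMonoidHom
      invFun := ConjClasses.map e.symm.toMonoidHom
      left_inv := fun c => by
        obtain ⟨w, rfl⟩ := ConjClasses.mk_surjective c
        exact congrArg ConjClasses.mk (e.symm_apply_apply w)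
      right_inv := fun c => by
        obtain ⟨w, rfl⟩ := ConjClasses.mk_surjective c
        exact congrArg ConjClasses.mk (e.apply_symm_apply w) }

end Cfsg.Agent.Lib.HeckeCenter
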