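import Cfsg.Agent.Lib.HeckeCenter.Casimir

/-!
# The dimension of the centre does not depend on the parameter

Both the rank of the Casimir operator and the rank of the obstruction map are lower
semicontinuous in `q`, and for `q > 0` they add up to `#W`; hence the dimension of the centre is
constant on `q > 0`. At `q = 1` it is the number of conjugacy classes of `W`.
-/

set_option autoImplicit false
set_option linter.unusedSectionVars false

namespace Cfsg.Agent.Lib.HeckeCenter

open Cfsg.Agent.Lib.BNPair

open Topology in
/-- Lower semicontinuity of the rank of a continuous family of linear maps. -/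
theorem eventually_le_finrank_range {X V U : Type*} [TopologicalSpace X] [AddCommGroup V]
    [Module ℂ V] [FiniteDimensional ℂ V] [NormedAddCommGroup U] [NormedSpace ℂ U]
    [FiniteDimensional ℂ U] (T : X → V →ₗ[ℂ] U) (hT : ∀ v, Continuous fun x => T x v) (x₀ : X) :
    ∀ᶠ x in 𝓝 x₀,
      Module.finrank ℂ (LinearMap.range (T x₀)) ≤ Module.finrank ℂ (LinearMap.range (T x)) := by
  let b := Module.finBasis ℂ (LinearMap.range (T x₀))
  choose v hv using fun i => (b i).2
  have h0 : LinearIndependent ℂ fun i => T x₀ (v i) := by
    simp only [hv]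
    exact b.linearIndependent.map' (LinearMap.range (T x₀)).subtype (Submodule.ker_subtype _)
  have hc : Continuous fun x i => T x (v i) := continuous_pi fun i => hT (v i)
  filter_upwards [(isOpen_setOfPred_linearIndependent (𝕜 := ℂ)).preimage hc |>.mem_nhds h0] with x hx
  have h1 : LinearIndependent ℂ (fun i => (⟨T x (v i), LinearMap.mem_range_self _ _⟩ :
      LinearMap.range (T x))) := LinearIndependent.of_comp (LinearMap.range (T x)).subtype hx
  simpa using h1.fintype_card_le_finrank

variable {G : Type*} [Group G] [Finite G] (P : Cfsg.BNPair G) [Fintype (W P)]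

theorem continuous_lop_family (s : P.S) {g : {q : ℝ // 0 < q} → W P → ℂ} (hg : Continuous g) :
    Continuous fun q : {q : ℝ // 0 < q} => lop P (q : ℝ) s (g q) := by
  refine continuous_pi fun w => ?_
  simp only [lop_apply]
  by_cases h : len P (refl P s * w) < len P w
  · simp only [if_pos h]; fun_prop
  · simp only [if_neg h]; fun_prop

theorem continuous_rop_family (s : P.S) {g : {q : ℝ // 0 < q} → W P → ℂ} (hg : Continuous g) :
    Continuous fun q : {q : ℝ // 0 < q} => rop P (q : ℝ) s (g q) := by
  refine continuous_pi fun w => ?_
  simp only [rop_apply]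
  by_cases h : len P (w * refl P s) < len P w
  · simp only [if_pos h]; fun_prop
  · simp only [if_neg h]; fun_prop

theorem continuous_lword_family : ∀ (L : List P.S) {g : {q : ℝ // 0 < q} → W P → ℂ},
    Continuous g → Continuous fun q : {q : ℝ // 0 < q} => lword P (q : ℝ) L (g q)
  | [], g, hg => by simpa [lword] using hg
  | s :: L, g, hg => by
    simp only [lword_cons, Module.End.mul_apply]
    exact continuous_lop_family P s (continuous_lword_family L hg)

theorem continuous_rword_family : ∀ (L : List P.S) {g : {q : ℝ // 0 < q} → W P → ℂ},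
    Continuous g → Continuous fun q : {q : ℝ // 0 < q} => rword P (q : ℝ) L (g q)
  | [], g, hg => by simpa [rword] using hg
  | s :: L, g, hg => by
    simp only [rword_cons, Module.End.mul_apply]
    exact continuous_rop_family P s (continuous_rword_family L hg)

theorem continuous_casimir (v : W P → ℂ) :
    Continuous fun q : {q : ℝ // 0 < q} => casimir P (q : ℝ) v := by
  simp only [casimir, casTerm, LinearMap.sum_apply, LinearMap.smul_apply, Module.End.mul_apply]
  refine continuous_finsetSum _ fun w _ => Continuous.smul (f := fun q : {q : ℝ // 0 < q} =>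
    (((q : ℝ) : ℂ) ^ len P w)⁻¹) (Continuous.inv₀ (by fun_prop) fun q => ?_)
    (continuous_lword_family P _ (continuous_rword_family P _ continuous_const))
  exact pow_ne_zero _ (by exact_mod_cast q.2.ne')

theorem continuous_obs (v : W P → ℂ) :
    Continuous fun q : {q : ℝ // 0 < q} => obs P (q : ℝ) v :=
  continuous_pi fun s => (continuous_lop_family P s continuous_const).sub
    (continuous_rop_family P s continuous_const)

/-- The dimension of the centre is independent of `q > 0`. -/
theorem finrank_center_eq {a b : ℝ} (ha : 0 < a) (hb : 0 < b) :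
    Module.finrank ℂ (center P a) = Module.finrank ℂ (center P b) := by
  let _ := Fintype.ofFinite P.S
  have : PreconnectedSpace {q : ℝ // 0 < q} :=
    Subtype.preconnectedSpace (isPreconnected_Ioi (a := (0 : ℝ)))
  let d : {q : ℝ // 0 < q} → ℕ := fun q => Module.finrank ℂ (center P (q : ℝ))
  suffices h : IsLocallyConstant d from h.apply_eq_of_preconnectedSpace ⟨a, ha⟩ ⟨b, hb⟩
  rw [IsLocallyConstant.iff_eventually_eq]
  intro x₀
  filter_upwards [eventually_le_finrank_range (fun q : {q : ℝ // 0 < q} => casimir P (q : ℝ))
      (continuous_casimir P) x₀,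
    eventually_le_finrank_range (fun q : {q : ℝ // 0 < q} => obs P (q : ℝ))
      (continuous_obs P) x₀] with x h1 h2
  have e0 := LinearMap.finrank_range_add_finrank_ker (obs P (x₀ : ℝ))
  have e1 := LinearMap.finrank_range_add_finrank_ker (obs P (x : ℝ))
  have c0 := congrArg (fun U : Submodule ℂ (W P → ℂ) => Module.finrank ℂ U) (center_eq_range P x₀.2)
  have c1 := congrArg (fun U : Submodule ℂ (W P → ℂ) => Module.finrank ℂ U) (center_eq_range P x.2)
  unfold center at c0 c1
  show Module.finrank ℂ (LinearMap.ker (obs P (x : ℝ))) =
    Module.finrank ℂ (LinearMap.ker (obs P (x₀ : ℝ)))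
  omega

/-- At `q = 1` the centre is the space of class functions. -/
theorem finrank_center_one :
    Module.finrank ℂ (center P 1) = Nat.card (ConjClasses (W P)) := by
  classical
  let _ : Fintype (ConjClasses (W P)) := Fintype.ofFinite _
  let ι : (ConjClasses (W P) → ℂ) →ₗ[ℂ] (W P → ℂ) := LinearMap.funLeft ℂ ℂ ConjClasses.mk
  have hι : Function.Injective ι :=
    LinearMap.funLeft_injective_of_surjective ℂ ℂ _ ConjClasses.mk_surjective
  have hl : ∀ (s : P.S) (f : W P → ℂ) (w : W P), lop P 1 s f w = f (refl P s * w) := by
    intro s f w; rw [lop_apply]; split_ifs <;> simp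
  have hr : ∀ (s : P.S) (f : W P → ℂ) (w : W P), rop P 1 s f w = f (w * refl P s) := by
    intro s f w; rw [rop_apply]; split_ifs <;> simp
  have hc : center P 1 = LinearMap.range ι := by
    ext f
    rw [mem_center]
    constructor
    · intro h
      have h' : ∀ (s : P.S) (w : W P), f (refl P s * w * refl P s) = f w := by
        intro s w
        have := congrFun (h s) (refl P s * w)
        rw [hl, hr, refl_mul_cancel] at this
        exact this.symm
      have hconj : ∀ (L : List P.S) (w : W P), f (wprod P L * w * (wprod P L)⁻¹) = f w := by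
        intro L
        induction L with
        | nil => simp
        | cons s L ih =>
          intro w
          rw [wprod_cons, mul_inv_rev, refl_inv, ← ih w]
          simpa [mul_assoc] using h' s (wprod P L * w * (wprod P L)⁻¹)
      have hinv : ∀ u w : W P, IsConj u w → f u = f w := by
        intro u w hu
        obtain ⟨g, hg⟩ := isConj_iff.1 hu
        obtain ⟨L, rfl⟩ := exists_word P g
        rw [← hg, hconj]
      exact ⟨fun c => Quotient.liftOn c f hinv, funext fun w => rfl⟩
    · rintro ⟨φ, rfl⟩ s
      funext w
      rw [hl, hr]
      refine congrArg φ (ConjClasses.mk_eq_mk_iff_isConj.2 (isConj_iff.2 ⟨refl P s, ?_⟩))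
      simp [mul_assoc, refl_inv, refl_mul_cancel]
  rw [hc, LinearMap.finrank_range_of_inj hι, Module.finrank_fintype_fun_eq_card,
    Nat.card_eq_fintype_card]

end Cfsg.Agent.Lib.HeckeCenter
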