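import Cfsg.Agent.Lib.BNPair.Basic

/-!
# The two regular representations of the Iwahori–Hecke algebra of a Tits system, with parameter

For a Tits system with Weyl group `W` and a real parameter `q`, `lop q s` and `rop q s` are left
and right multiplication by the standard generator attached to `s`, acting on functions on `W`.
-/

set_option autoImplicit false

namespace Cfsg.Agent.Lib.HeckeCenter

open Cfsg.Agent.Lib.BNPair

variable {G : Type*} [Group G] (P : Cfsg.BNPair G)

/-- Left multiplication by a generator. -/
noncomputable def lop (q : ℝ) (s : P.S) : (W P → ℂ) →ₗ[ℂ] (W P → ℂ) where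
  toFun f w := if len P (refl P s * w) < len P w then f (refl P s * w) + ((q : ℂ) - 1) * f w
    else (q : ℂ) * f (refl P s * w)
  map_add' f g := by funext w; simp only [Pi.add_apply]; split_ifs <;> ring
  map_smul' c f := by
    funext w; simp only [Pi.smul_apply, smul_eq_mul, RingHom.id_apply]; split_ifs <;> ring

/-- Right multiplication by a generator. -/
noncomputable def rop (q : ℝ) (s : P.S) : (W P → ℂ) →ₗ[ℂ] (W P → ℂ) where
  toFun f w := if len P (w * refl P s) < len P w then f (w * refl P s) + ((q : ℂ) - 1) * f w
    else (q : ℂ) * f (w * refl P s)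
  map_add' f g := by funext w; simp only [Pi.add_apply]; split_ifs <;> ring
  map_smul' c f := by
    funext w; simp only [Pi.smul_apply, smul_eq_mul, RingHom.id_apply]; split_ifs <;> ring

theorem lop_apply (q : ℝ) (s : P.S) (f : W P → ℂ) (w : W P) :
    lop P q s f w = if len P (refl P s * w) < len P w then f (refl P s * w) + ((q : ℂ) - 1) * f w
      else (q : ℂ) * f (refl P s * w) := rfl

theorem rop_apply (q : ℝ) (s : P.S) (f : W P → ℂ) (w : W P) :
    rop P q s f w = if len P (w * refl P s) < len P w then f (w * refl P s) + ((q : ℂ) - 1) * f w
      else (q : ℂ) * f (w * refl P s) := rfl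

theorem rop_eq_lop_inv (q : ℝ) (s : P.S) (f : W P → ℂ) (w : W P) :
    rop P q s f w = lop P q s (fun u => f u⁻¹) w⁻¹ := by
  have e : refl P s * w⁻¹ = (w * refl P s)⁻¹ := by rw [mul_inv_rev, refl_inv]
  simp only [rop_apply, lop_apply, e, len_inv, inv_inv]

/-- The two kinds of multiplication commute. -/
theorem lop_rop_comm (q : ℝ) (s t : P.S) :
    lop P q s * rop P q t = rop P q t * lop P q s := by
  refine LinearMap.ext fun f => funext fun w => ?_
  show lop P q s (rop P q t f) w = rop P q t (lop P q s f) w
  have hs := len_refl_mul P s w
  have ht := len_mul_refl P t w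
  have hst := len_mul_refl P t (refl P s * w)
  have hts := len_refl_mul P s (w * refl P t)
  have ea : refl P s * (w * refl P t) = refl P s * w * refl P t := (mul_assoc _ _ _).symm
  simp only [lop_apply, rop_apply, ea] at *
  rcases hs with hs | hs <;> rcases ht with ht | ht
  · -- both ascending
    by_cases hd : len P (refl P s * w * refl P t) < len P (w * refl P t)
    · have e := exchange_step P (s := s) (t := t) (u := w) (by omega) (by rwa [← mul_assoc])
      have e' : refl P s * w * refl P t = w := by rw [e, mul_refl_cancel]
      simp only [e', hs, ht, show ¬ (len P w + 1 < len P w) by omega, Nat.lt_succ_self, if_true,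
        if_false]
      rw [e]
    · have h1 : ¬ (len P (refl P s * w) < len P w) := by omega
      have h2 : ¬ (len P (w * refl P t) < len P w) := by omega
      have h3 : ¬ (len P (refl P s * w * refl P t) < len P (refl P s * w)) := by omega
      simp only [h1, h2, h3, hd, if_false]
  · -- `s` ascending, `t` descending
    have h1 : ¬ (len P (refl P s * w) < len P w) := by omega
    have h2 : len P (w * refl P t) < len P w := by omega
    have h3 : len P (refl P s * w * refl P t) < len P (refl P s * w) := by omega
    have h4 : ¬ (len P (refl P s * w * refl P t) < len P (w * refl P t)) := by omega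
    simp only [h1, h2, h3, h4, if_true, if_false]
    ring
  · -- `s` descending, `t` ascending
    have h1 : len P (refl P s * w) < len P w := by omega
    have h2 : ¬ (len P (w * refl P t) < len P w) := by omega
    have h3 : ¬ (len P (refl P s * w * refl P t) < len P (refl P s * w)) := by omega
    have h4 : len P (refl P s * w * refl P t) < len P (w * refl P t) := by omega
    simp only [h1, h2, h3, h4, if_true, if_false]
    ring
  · -- both descending
    by_cases hd : len P (refl P s * w * refl P t) < len P (w * refl P t)
    · have h1 : len P (refl P s * w) < len P w := by omega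
      have h2 : len P (w * refl P t) < len P w := by omega
      have h3 : len P (refl P s * w * refl P t) < len P (refl P s * w) := by omega
      simp only [h1, h2, h3, hd, if_true]
      ring
    · have e : refl P s * (refl P s * w) = refl P s * w * refl P t := by
        refine exchange_step P (s := s) (t := t) (u := refl P s * w)
          (by rw [refl_mul_cancel]; omega) ?_
        rw [← mul_assoc (refl P s) (refl P s * w), refl_mul_cancel]
        omega
      rw [refl_mul_cancel] at e
      have e' : refl P s * w = w * refl P t := by
        conv_rhs => rw [e, mul_refl_cancel]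
      have h1 : len P (refl P s * w) < len P w := by omega
      have h2 : len P (w * refl P t) < len P w := by omega
      simp only [← e, h1, h2, show ¬ (len P w < len P (refl P s * w)) by omega,
        show ¬ (len P w < len P (w * refl P t)) by omega, if_true, if_false]
      rw [e']

open Classical in
/-- The basis vector of `w`. -/
noncomputable def bas (w : W P) : W P → ℂ := Pi.single w 1

theorem bas_self (w : W P) : bas P w w = 1 := by simp [bas]

theorem bas_ne {w u : W P} (h : u ≠ w) : bas P w u = 0 := by simp [bas, h]

theorem lop_bas_asc (q : ℝ) {s : P.S} {w : W P} (h : len P w < len P (refl P s * w)) :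
    lop P q s (bas P w) = bas P (refl P s * w) := by
  funext u
  rw [lop_apply]
  by_cases hu : u = refl P s * w
  · subst hu
    rw [refl_mul_cancel, if_pos h, bas_self, bas_self, bas_ne P (fun e => refl_mul_ne P s w e)]
    ring
  · rw [bas_ne P hu]
    by_cases huw : u = w
    · subst huw
      rw [if_neg (by omega), bas_ne P (fun e => refl_mul_ne P s u e), mul_zero]
    · have h' : refl P s * u ≠ w := fun e => hu (by rw [← e, refl_mul_cancel])
      rw [bas_ne P h', bas_ne P huw]; simp

theorem lop_bas_desc (q : ℝ) {s : P.S} {w : W P} (h : len P (refl P s * w) < len P w) :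
    lop P q s (bas P w) = ((q : ℂ) - 1) • bas P w + (q : ℂ) • bas P (refl P s * w) := by
  funext u
  simp only [lop_apply, Pi.add_apply, Pi.smul_apply, smul_eq_mul]
  by_cases hu : u = refl P s * w
  · subst hu
    rw [refl_mul_cancel, if_neg (by omega), bas_self, bas_self,
      bas_ne P (fun e => refl_mul_ne P s w e)]
    ring
  · rw [bas_ne P hu]
    by_cases huw : u = w
    · subst huw
      rw [if_pos h, bas_ne P (fun e => refl_mul_ne P s u e), bas_self]
      ring
    · have h' : refl P s * u ≠ w := fun e => hu (by rw [← e, refl_mul_cancel])
      rw [bas_ne P h', bas_ne P huw]; simp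

theorem rop_bas (q : ℝ) (s : P.S) (w : W P) :
    rop P q s (bas P w) = fun u => lop P q s (bas P w⁻¹) u⁻¹ := by
  funext u
  have e : (fun v => bas P w v⁻¹) = bas P w⁻¹ := by
    funext v
    by_cases hv : v = w⁻¹
    · subst hv; rw [inv_inv, bas_self, bas_self]
    · rw [bas_ne P hv, bas_ne P (fun e => hv (by rw [← e, inv_inv]))]
  rw [rop_eq_lop_inv, e]

theorem bas_inv (w u : W P) : bas P w⁻¹ u⁻¹ = bas P w u := by
  by_cases h : u = w
  · subst h; rw [bas_self, bas_self]
  · rw [bas_ne P h, bas_ne P (fun e => h (inv_injective e))]

theorem rop_bas_asc (q : ℝ) {s : P.S} {w : W P} (h : len P w < len P (w * refl P s)) :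
    rop P q s (bas P w) = bas P (w * refl P s) := by
  have e : refl P s * w⁻¹ = (w * refl P s)⁻¹ := by rw [mul_inv_rev, refl_inv]
  rw [rop_bas, lop_bas_asc P q (by rw [e, len_inv, len_inv]; exact h), e]
  funext u; rw [bas_inv]

theorem rop_bas_desc (q : ℝ) {s : P.S} {w : W P} (h : len P (w * refl P s) < len P w) :
    rop P q s (bas P w) = ((q : ℂ) - 1) • bas P w + (q : ℂ) • bas P (w * refl P s) := by
  have e : refl P s * w⁻¹ = (w * refl P s)⁻¹ := by rw [mul_inv_rev, refl_inv]
  rw [rop_bas, lop_bas_desc P q (by rw [e, len_inv, len_inv]; exact h), e]
  funext u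
  simp only [Pi.add_apply, Pi.smul_apply, bas_inv]

/-- A chosen reduced word. -/
noncomputable def red (w : W P) : List P.S := (exists_reduced P w).choose

theorem red_length (w : W P) : (red P w).length = len P w := (exists_reduced P w).choose_spec.1

theorem red_prod (w : W P) : wprod P (red P w) = w := (exists_reduced P w).choose_spec.2

theorem red_one : red P 1 = [] := by
  have := red_length P 1
  rw [len_one] at this
  exact List.length_eq_zero_iff.1 this

/-- Left multiplication by a word. -/
noncomputable def lword (q : ℝ) (L : List P.S) : Module.End ℂ (W P → ℂ) :=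
  (L.map (lop P q)).prod

/-- Right multiplication by a word (in reversed order). -/
noncomputable def rword (q : ℝ) (L : List P.S) : Module.End ℂ (W P → ℂ) :=
  (L.map (rop P q)).prod

theorem lword_cons (q : ℝ) (s : P.S) (L : List P.S) :
    lword P q (s :: L) = lop P q s * lword P q L := by simp [lword]

theorem rword_cons (q : ℝ) (s : P.S) (L : List P.S) :
    rword P q (s :: L) = rop P q s * rword P q L := by simp [rword]

theorem lword_commute_rop (q : ℝ) (L : List P.S) (t : P.S) :
    Commute (lword P q L) (rop P q t) := by
  induction L with
  | nil => exact Commute.one_left _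
  | cons s L ih => rw [lword_cons]; exact Commute.mul_left (lop_rop_comm P q s t) ih

theorem rword_commute_lop (q : ℝ) (L : List P.S) (t : P.S) :
    Commute (rword P q L) (lop P q t) := by
  induction L with
  | nil => exact Commute.one_left _
  | cons s L ih => rw [rword_cons]; exact Commute.mul_left (lop_rop_comm P q t s).symm ih

theorem isReduced_tail {s : P.S} {L : List P.S}
    (h : (s :: L).length = len P (wprod P (s :: L))) :
    L.length = len P (wprod P L) ∧ len P (wprod P L) < len P (refl P s * wprod P L) := by
  have h1 := len_refl_mul_le P s (wprod P L)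
  have h2 := len_le P L
  simp only [wprod_cons, List.length_cons] at h
  omega

theorem lword_bas (q : ℝ) : ∀ {L : List P.S}, L.length = len P (wprod P L) →
    lword P q L (bas P 1) = bas P (wprod P L)
  | [], _ => by simp [lword]
  | s :: L, h => by
    obtain ⟨h1, h2⟩ := isReduced_tail P h
    rw [lword_cons, Module.End.mul_apply, lword_bas q h1, lop_bas_asc P q h2, wprod_cons]

theorem rword_bas (q : ℝ) : ∀ {L : List P.S}, L.length = len P (wprod P L) →
    rword P q L (bas P 1) = bas P (wprod P L)⁻¹
  | [], _ => by simp [rword]
  | s :: L, h => by
    obtain ⟨h1, h2⟩ := isReduced_tail P h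
    have e : (wprod P L)⁻¹ * refl P s = (refl P s * wprod P L)⁻¹ := by rw [mul_inv_rev, refl_inv]
    rw [rword_cons, Module.End.mul_apply, rword_bas q h1,
      rop_bas_asc P q (by rw [e, len_inv, len_inv]; exact h2), e, wprod_cons]

theorem red_reduced (w : W P) : (red P w).length = len P (wprod P (red P w)) := by
  rw [red_prod, red_length]

theorem lword_red (q : ℝ) (w : W P) : lword P q (red P w) (bas P 1) = bas P w := by
  rw [lword_bas P q (red_reduced P w), red_prod]

theorem rword_red (q : ℝ) (w : W P) : rword P q (red P w) (bas P 1) = bas P w⁻¹ := by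
  rw [rword_bas P q (red_reduced P w), red_prod]

variable [Finite G]

omit [Finite G] in
theorem eq_sum_bas [Fintype (W P)] (f : W P → ℂ) : f = ∑ w, f w • bas P w := by
  funext u
  rw [Finset.sum_apply, Finset.sum_eq_single u]
  · simp [bas_self]
  · intro w _ hw; simp [bas_ne P (Ne.symm hw)]
  · simp

/-- An operator commuting with all right multiplications is determined by its value at `1`. -/
theorem eq_of_commute_rop (q : ℝ) {a b : Module.End ℂ (W P → ℂ)}
    (ha : ∀ t, Commute a (rop P q t)) (hb : ∀ t, Commute b (rop P q t))
    (h : a (bas P 1) = b (bas P 1)) : a = b := by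
  classical
  let _ := Fintype.ofFinite (W P)
  have hc : ∀ (c : Module.End ℂ (W P → ℂ)), (∀ t, Commute c (rop P q t)) → ∀ L : List P.S,
      Commute c (rword P q L) := by
    intro c hc L
    induction L with
    | nil => exact Commute.one_right _
    | cons s L ih => rw [rword_cons]; exact (hc s).mul_right ih
  have key : ∀ w, a (bas P w) = b (bas P w) := by
    intro w
    rw [← inv_inv w, ← rword_red P q w⁻¹, ← Module.End.mul_apply, (hc a ha _).eq,
      Module.End.mul_apply, h, ← Module.End.mul_apply, ← (hc b hb _).eq, Module.End.mul_apply]
  refine LinearMap.ext fun f => ?_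
  rw [eq_sum_bas P f, map_sum, map_sum]
  exact Finset.sum_congr rfl fun w _ => by rw [map_smul, map_smul, key]

/-- An operator commuting with all left multiplications is determined by its value at `1`. -/
theorem eq_of_commute_lop (q : ℝ) {a b : Module.End ℂ (W P → ℂ)}
    (ha : ∀ t, Commute a (lop P q t)) (hb : ∀ t, Commute b (lop P q t))
    (h : a (bas P 1) = b (bas P 1)) : a = b := by
  classical
  let _ := Fintype.ofFinite (W P)
  have hc : ∀ (c : Module.End ℂ (W P → ℂ)), (∀ t, Commute c (lop P q t)) → ∀ L : List P.S,
      Commute c (lword P q L) := by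
    intro c hc L
    induction L with
    | nil => exact Commute.one_right _
    | cons s L ih => rw [lword_cons]; exact (hc s).mul_right ih
  have key : ∀ w, a (bas P w) = b (bas P w) := by
    intro w
    rw [← lword_red P q w, ← Module.End.mul_apply, (hc a ha _).eq,
      Module.End.mul_apply, h, ← Module.End.mul_apply, ← (hc b hb _).eq, Module.End.mul_apply]
  refine LinearMap.ext fun f => ?_
  rw [eq_sum_bas P f, map_sum, map_sum]
  exact Finset.sum_congr rfl fun w _ => by rw [map_smul, map_smul, key]

end Cfsg.Agent.Lib.HeckeCenter
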