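import Cfsg.Agent.Lib.HeckeCenter.Deformation
import Cfsg.Agent.Lib.HeckeCenter.BiInvariant
import Cfsg.Agent.Lib.BNPair.Parabolic

/-!
# Constituents of `1_B^G` for a finite Tits system with equal parameters

If `[B : B ∩ s⁻¹Bs] = q` for every distinguished `s`, then the number of irreducible constituents
of the permutation character on the cosets of `B` is the number of conjugacy classes of `W`.
-/

set_option autoImplicit false
set_option linter.unusedSectionVars false

namespace Cfsg.Agent.Lib.HeckeCenter

open Cfsg.Agent.Lib.BNPair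

universe u

variable {G : Type u} [Group G] [Fintype G] (P : Cfsg.BNPair G) [Fintype P.B]

/-- `B ∩ s⁻¹ B s`. -/
def innerB (s : P.S) : Subgroup G := P.B ⊓ P.B.comap (MulAut.conj (s : G)).toMonoidHom

theorem mem_innerB {s : P.S} {c : G} :
    c ∈ innerB P s ↔ c ∈ P.B ∧ (s : G) * c * (s : G)⁻¹ ∈ P.B := by
  simp [innerB]

/-- The Weyl group element of the cell of `g`. -/
noncomputable def cellOf (g : G) : W P := (exists_mem_cell P g).choose

theorem cellOf_spec (g : G) : g ∈ cell P (cellOf P g) := (exists_mem_cell P g).choose_spec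

theorem cellOf_eq {g : G} {w : W P} (h : g ∈ cell P w) : cellOf P g = w :=
  eq_of_mem_cell P (cellOf_spec P g) h

theorem cellOf_inv (g : G) : cellOf P g⁻¹ = (cellOf P g)⁻¹ :=
  cellOf_eq P (inv_mem_cell P (cellOf_spec P g))

/-- A function on `W` as a bi-invariant function on `G`. -/
noncomputable def lift (v : W P → ℂ) : G → ℂ := fun g => v (cellOf P g)

theorem lift_mul_left (v : W P → ℂ) (g : G) {b : G} (hb : b ∈ P.B) :
    lift P v (b * g) = lift P v g := by
  refine congrArg v (cellOf_eq P ?_)
  simpa using mul_mem_cell P hb (cellOf_spec P g) (one_mem _)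

theorem lift_mul_right (v : W P → ℂ) (g : G) {b : G} (hb : b ∈ P.B) :
    lift P v (g * b) = lift P v g := by
  refine congrArg v (cellOf_eq P ?_)
  simpa using mul_mem_cell P (one_mem _) (cellOf_spec P g) hb

theorem out_cellOf (w : W P) : cellOf P ((Quotient.out w : P.N) : G) = w :=
  cellOf_eq P (out_mem_cell P w)

variable {q : ℕ}

/-- The distribution of `s B y` over the cells. -/
theorem sum_lift_gen (hq : ∀ s : P.S, Nat.card (innerB P s) * q = Nat.card P.B) (s : P.S)
    (v : W P → ℂ) (y : G) :
    (q : ℂ) * ∑ b : P.B, lift P v ((s : G) * b * y) =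
      (Nat.card P.B : ℂ) * lop P q s v (cellOf P y) := by
  classical
  have hy := cellOf_spec P y
  set w := cellOf P y with hw
  have hs : (s : G) ∈ cell P (refl P s) := cell_refl P s ▸ mem_dc_self P _
  have hsb : ∀ b : P.B, (s : G) * b ∈ cell P (refl P s) := fun b => by
    simpa using mul_mem_cell P (one_mem _) hs b.2
  rw [lop_apply]
  rcases len_refl_mul P s w with hl | hl
  · rw [if_neg (by omega)]
    have : ∀ b : P.B, lift P v ((s : G) * b * y) = v (refl P s * w) := fun b =>
      congrArg v (cellOf_eq P (mul_cell_mem_of_le P _ rfl (by omega) (hsb b) hy))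
    simp only [this, Finset.sum_const, Finset.card_univ, nsmul_eq_mul, Fintype.card_eq_nat_card,
      Complex.ofReal_natCast]
    ring
  · rw [if_pos (by omega)]
    let A : Finset P.B := Finset.univ.filter fun b => (s : G) * b * y ∈ cell P (refl P s * w)
    obtain ⟨n, hn⟩ := QuotientGroup.mk_surjective w
    rw [← hn, cell_toW, mem_dc] at hy
    obtain ⟨c₁, hc₁, c₂, hc₂, hyn⟩ := hy
    -- one good element
    have hb0 : ∃ b₀ : P.B, b₀ ∈ A := by
      refine ⟨⟨(((s : G) * s))⁻¹ * c₁⁻¹, mul_mem (inv_mem (P.sq_mem s s.2)) (inv_mem hc₁)⟩, ?_⟩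
      simp only [A, Finset.mem_filter, Finset.mem_univ, true_and]
      have e : refl P s * w = toW P ((gen P s)⁻¹ * n) := by
        rw [← hn, toW, QuotientGroup.mk_mul, QuotientGroup.mk_inv]
        show refl P s * _ = (refl P s)⁻¹ * _
        rw [refl_inv]
      rw [e, cell_toW, mem_dc, hyn]
      refine ⟨1, one_mem _, c₂, hc₂, ?_⟩
      simp only [Subgroup.coe_mul, Subgroup.coe_inv]
      group
    obtain ⟨b₀, hb₀⟩ := hb0
    simp only [A, Finset.mem_filter, Finset.mem_univ, true_and] at hb₀
    have hAiff : ∀ b : P.B, b ∈ A ↔ (b : G) * (b₀ : G)⁻¹ ∈ innerB P s := by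
      intro b
      simp only [A, Finset.mem_filter, Finset.mem_univ, true_and, mem_innerB]
      refine ⟨fun hb => ⟨mul_mem b.2 (inv_mem b₀.2), ?_⟩, fun hb => ?_⟩
      · have h1 : (s : G) * ((b : G) * (b₀ : G)⁻¹) ∈ cell P (refl P s) :=
          hsb ⟨_, mul_mem b.2 (inv_mem b₀.2)⟩
        have h2 := mul_cell_mem P h1 (refl_inv P s ▸ inv_mem_cell P hs)
        rw [refl_sq, cell_one] at h2
        refine h2.resolve_right fun h' => ?_
        have h3 := mul_cell_mem_of_le P _ (s := s) rfl (by rw [refl_mul_cancel]; omega) h' hb₀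
        have e : (s : G) * ((b : G) * (b₀ : G)⁻¹) * (s : G)⁻¹ * ((s : G) * b₀ * y) =
            (s : G) * b * y := by group
        rw [e, refl_mul_cancel] at h3
        exact refl_mul_ne P s w (eq_of_mem_cell P hb h3)
      · have e : (s : G) * b * y =
            ((s : G) * ((b : G) * (b₀ : G)⁻¹) * (s : G)⁻¹) * ((s : G) * b₀ * y) * 1 := by group
        rw [e]
        exact mul_mem_cell P hb.2 hb₀ (one_mem _)
    have hA : A.card = Nat.card (innerB P s) := by
      rw [← Nat.card_eq_finsetCard]
      exact Nat.card_congr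
        { toFun := fun b => ⟨(b.1 : G) * (b₀ : G)⁻¹, (hAiff b.1).1 b.2⟩
          invFun := fun c => ⟨⟨(c : G) * b₀, mul_mem c.2.1 b₀.2⟩,
            (hAiff _).2 (by simp [c.2])⟩
          left_inv := fun b => by ext; simp
          right_inv := fun c => by ext; simp }
    have hsum : ∀ b : P.B, lift P v ((s : G) * b * y) =
        v w + if b ∈ A then v (refl P s * w) - v w else 0 := by
      intro b
      have hy' := cellOf_spec P y
      rw [← hw] at hy'
      by_cases hb : b ∈ A
      · rw [if_pos hb]
        simp only [A, Finset.mem_filter, Finset.mem_univ, true_and] at hb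
        show v (cellOf P _) = _
        rw [cellOf_eq P hb]; ring
      · rw [if_neg hb, add_zero]
        simp only [A, Finset.mem_filter, Finset.mem_univ, true_and] at hb
        exact congrArg v (cellOf_eq P ((mul_cell_mem P (hsb b) hy').resolve_left hb))
    simp only [hsum, Finset.sum_add_distrib, Finset.sum_ite_mem, Finset.univ_inter, Finset.sum_const,
      Finset.card_univ, nsmul_eq_mul, Fintype.card_eq_nat_card, hA, Complex.ofReal_natCast]
    rw [← hq s]
    push_cast
    ring

theorem sum_lift_gen_right (hq : ∀ s : P.S, Nat.card (innerB P s) * q = Nat.card P.B) (s : P.S)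
    (v : W P → ℂ) (y : G) :
    (q : ℂ) * ∑ b : P.B, lift P v (y * b * (s : G)) =
      (Nat.card P.B : ℂ) * rop P q s v (cellOf P y) := by
  rw [rop_eq_lop_inv, ← cellOf_inv, ← sum_lift_gen P hq s _ y⁻¹]
  congr 1
  obtain ⟨c, hc, hc'⟩ : ∃ c ∈ P.B, (s : G)⁻¹ = c * (s : G) :=
    ⟨((s : G) * s)⁻¹, inv_mem (P.sq_mem s s.2), by group⟩
  refine Fintype.sum_equiv (Equiv.inv P.B) _ _ fun b => ?_
  show v (cellOf P (y * b * s)) = v ((cellOf P ((s : G) * ((b⁻¹ : P.B) : G) * y⁻¹))⁻¹)
  rw [← cellOf_inv]
  have e : y * (b : G) * s = ((s : G) * ((b⁻¹ : P.B) : G) * y⁻¹)⁻¹ * c⁻¹ := by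
    rw [Subgroup.coe_inv]
    calc y * (b : G) * s = y * b * ((s : G)⁻¹)⁻¹ := by rw [inv_inv]
      _ = y * b * (c * s)⁻¹ := by rw [hc']
      _ = _ := by group
  rw [e]
  exact lift_mul_right P v _ (inv_mem hc)

theorem lift_mem_biCenter_iff (hq : ∀ s : P.S, Nat.card (innerB P s) * q = Nat.card P.B)
    (hq0 : q ≠ 0) (v : W P → ℂ) : lift P v ∈ biCenter P.B ↔ v ∈ center P q := by
  have hB : (Nat.card P.B : ℂ) ≠ 0 := Nat.cast_ne_zero.2 Nat.card_pos.ne'
  have hqc : (q : ℂ) ≠ 0 := Nat.cast_ne_zero.2 hq0
  rw [mem_center]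
  constructor
  · intro hu s
    funext w
    have h := hu.2 (s : G) ((Quotient.out w : P.N) : G)
    have h2 := congrArg (fun x : ℂ => (q : ℂ) * x) h
    simp only [sum_lift_gen P hq, sum_lift_gen_right P hq, out_cellOf] at h2
    exact (mul_left_cancel₀ hB h2).symm
  · intro hv
    refine ⟨fun g b => ⟨lift_mul_left P v g b.2, lift_mul_right P v g b.2⟩, ?_⟩
    set u := lift P v with hu
    -- invariance of both sums in `g`
    let F : G → G → ℂ := fun y g => ∑ b : P.B, u (y * b * g)
    let H : G → G → ℂ := fun y g => ∑ b : P.B, u (g * b * y)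
    have hFdc : ∀ y g x : G, x ∈ dc P g → F y x = F y g := by
      intro y g x hx
      obtain ⟨b, hb, c, hc, rfl⟩ := (mem_dc P).1 hx
      refine Fintype.sum_equiv (Equiv.mulRight ⟨b, hb⟩) _ _ fun d => ?_
      simp only [hu, Equiv.coe_mulRight, Subgroup.coe_mul]
      rw [show y * (d : G) * (b * g * c) = y * ((d : G) * b) * g * c by group,
        lift_mul_right P v _ hc]
    have hHdc : ∀ y g x : G, x ∈ dc P g → H y x = H y g := by
      intro y g x hx
      obtain ⟨b, hb, c, hc, rfl⟩ := (mem_dc P).1 hx
      refine Fintype.sum_equiv (Equiv.mulLeft ⟨c, hc⟩) _ _ fun d => ?_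
      simp only [hu, Equiv.coe_mulLeft, Subgroup.coe_mul]
      rw [show b * g * c * (d : G) * y = b * (g * (c * (d : G)) * y) by group,
        lift_mul_left P v _ hb]
    have hgen : ∀ (s : P.S) (y : G), F y s = H y s := by
      intro s y
      refine mul_left_cancel₀ hqc ?_
      show (q : ℂ) * ∑ b : P.B, u (y * b * s) = (q : ℂ) * ∑ b : P.B, u (s * b * y)
      rw [hu, sum_lift_gen P hq, sum_lift_gen_right P hq, hv s]
    have key : ∀ (k : ℕ) (w : W P), len P w = k → ∀ g ∈ cell P w, ∀ y, F y g = H y g := by
      intro k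
      induction k with
      | zero =>
        intro w hw g hg y
        obtain rfl := eq_one_of_len_eq_zero P hw
        rw [cell_one] at hg
        refine Finset.sum_congr rfl fun b _ => ?_
        simp only [hu]
        rw [mul_assoc y, lift_mul_right P v _ (mul_mem b.2 hg), lift_mul_left P v _ (mul_mem hg b.2)]
      | succ k ih =>
        intro w hw g hg y
        obtain ⟨L, hl, rfl⟩ := exists_reduced P w
        rcases L with _ | ⟨s, L⟩
        · simp [len_one] at hw
        set w' := wprod P L with hw'
        have h1 := len_le P L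
        have h2 := len_refl_mul_le P s w'
        simp only [wprod_cons, List.length_cons] at hw hl hg
        rw [← hw'] at h1 hw hl hg
        have hk : len P w' = k := by omega
        set h := ((Quotient.out w' : P.N) : G)
        have hh : h ∈ cell P w' := out_mem_cell P w'
        have hin : ∀ b : P.B, (s : G) * b * h ∈ dc P g := by
          intro b
          have e : cell P (refl P s * w') = dc P g := by
            rw [cell] at hg ⊢
            exact (dc_eq_of_mem P hg).symm
          rw [← e]
          exact mul_cell_mem_of_le P _ rfl (by omega)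
            (by simpa using mul_mem_cell P (one_mem _) (cell_refl P s ▸ mem_dc_self P _) b.2) hh
        refine mul_left_cancel₀ hB ?_
        calc (Nat.card P.B : ℂ) * F y g = ∑ b : P.B, F y ((s : G) * b * h) := by
              rw [Finset.sum_congr rfl fun b _ => hFdc y g _ (hin b), Finset.sum_const,
                Finset.card_univ, nsmul_eq_mul, Fintype.card_eq_nat_card]
          _ = ∑ c : P.B, F (y * c * s) h := by
              simp only [F]
              rw [Finset.sum_comm]
              simp [mul_assoc]
          _ = ∑ c : P.B, H (y * c * s) h := Finset.sum_congr rfl fun c _ => ih w' hk h hh _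
          _ = ∑ b : P.B, F (h * b * y) s := by
              simp only [F, H]
              rw [Finset.sum_comm]
              simp [mul_assoc]
          _ = ∑ b : P.B, H (h * b * y) s := Finset.sum_congr rfl fun b _ => hgen s _
          _ = ∑ b : P.B, H y ((s : G) * b * h) := by
              simp only [H]
              rw [Finset.sum_comm]
              simp [mul_assoc]
          _ = (Nat.card P.B : ℂ) * H y g := by
              rw [Finset.sum_congr rfl fun b _ => hHdc y g _ (hin b), Finset.sum_const,
                Finset.card_univ, nsmul_eq_mul, Fintype.card_eq_nat_card]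
    intro g y
    exact key _ _ rfl g (cellOf_spec P g) y

/-- **Constituents of `1_B^G`.** -/
theorem card_constituents_eq (hq : ∀ s : P.S, Nat.card (innerB P s) * q = Nat.card P.B)
    (hq0 : q ≠ 0) :
    Nat.card {χ : Cfsg.IrrCharacter G // ∃ φ : G → ℂ, Cfsg.IsCharacter G φ ∧
      Cfsg.fixedPointCharacter P.B = (χ : G → ℂ) + φ} = Nat.card (ConjClasses (W P)) := by
  classical
  let _ : Fintype (W P) := Fintype.ofFinite _
  rw [card_constituents]
  have hqr : (0 : ℝ) < (q : ℝ) := by exact_mod_cast Nat.pos_of_ne_zero hq0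
  rw [← finrank_center_one P, finrank_center_eq P one_pos hqr]
  let L : (W P → ℂ) →ₗ[ℂ] (G → ℂ) := LinearMap.funLeft ℂ ℂ (cellOf P)
  have hL : Function.Injective L :=
    LinearMap.funLeft_injective_of_surjective ℂ ℂ _ fun w => ⟨_, out_cellOf P w⟩
  have hmap : (center P (q : ℝ)).map L = biCenter P.B := by
    refine le_antisymm ?_ ?_
    · rintro _ ⟨v, hv, rfl⟩
      exact (lift_mem_biCenter_iff P hq hq0 v).2 hv
    · intro u hu
      have e : L (fun w => u ((Quotient.out w : P.N) : G)) = u := by
        funext g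
        show u _ = u g
        obtain ⟨b, hb, c, hc, e⟩ := (mem_dc P).1 (cellOf_spec P g)
        conv_rhs => rw [e]
        rw [(hu.1 _ ⟨c, hc⟩).2, (hu.1 _ ⟨b, hb⟩).1]
      refine ⟨fun w => u ((Quotient.out w : P.N) : G), (lift_mem_biCenter_iff P hq hq0 _).1 ?_, e⟩
      rw [show lift P (fun w => u ((Quotient.out w : P.N) : G)) = u from e]
      exact hu
  rw [← hmap, ← (Submodule.equivMapOfInjective L hL _).finrank_eq]

end Cfsg.Agent.Lib.HeckeCenter
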